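import Cfsg.Prelude.Def_MonsterType
import Cfsg.Agent.Layer.FStar
import Cfsg.Agent.Core.PCore

/-!
# Two general facts on extraspecial centralisers

The central involution of an extraspecial-centraliser setting is central in a Sylow 2-subgroup, and
the generalised Fitting subgroup of its centraliser does not grow in an overgroup of index two unless
an outer element acts trivially modulo `Q`.
-/

set_option autoImplicit false

open Cfsg Subgroup

namespace Cfsg.Agent.MonsterFischer

/-- The central involution is central in a Sylow 2-subgroup. -/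
theorem central_in_sylow {H : Type*} [Group H] [Finite H] {z : H}
    {Q : Subgroup (Subgroup.centralizer ({z} : Set H))} [Q.Normal] {w : ℕ}
    (h : IsExtraspecialCentralizerSetting z Q w) :
    ∃ P : Sylow 2 H, z ∈ (P : Subgroup H) ∧ ∀ x ∈ (P : Subgroup H), Commute x z := by
  obtain ⟨hz, hF, hes, -, -⟩ := h
  have := Fact.mk Nat.prime_two
  let zc : Subgroup.centralizer ({z} : Set H) := ⟨z, mem_centralizer_singleton_iff.2 rfl⟩
  have hcQ : ∀ {c : Subgroup.centralizer ({z} : Set H)}, (∀ q ∈ Q, q * c = c * q) → c ∈ Q := by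
    intro c hc
    have hmem : c ∈ centralizer ((generalizedFittingSubgroup ↥(Subgroup.centralizer ({z} : Set H))) : Set ↥(Subgroup.centralizer ({z} : Set H))) :=
      mem_centralizer_iff.2 fun q hq => hc q (hF.le hq)
    exact hF.le (Layer.centralizer_generalizedFitting_le hmem)
  have hzQ : zc ∈ Q := hcQ fun q _ => Subtype.ext (mem_centralizer_singleton_iff.1 q.2)
  obtain ⟨T, hT⟩ := (hes.1.1 : IsPGroup 2 ↥Q).exists_le_sylow
  obtain ⟨P, hP⟩ := (T.isPGroup'.map (centralizer ({z} : Set H)).subtype).exists_le_sylow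
  have hzP : z ∈ (P : Subgroup H) := hP ⟨zc, hT hzQ, rfl⟩
  have hz1 : z ≠ 1 := fun e => by simp [e] at hz
  have : Nontrivial ↥(P : Subgroup H) :=
    ⟨⟨z, hzP⟩, 1, fun e => hz1 (congrArg Subtype.val e)⟩
  have := P.isPGroup'.center_nontrivial
  obtain ⟨⟨c, hc⟩, hc1⟩ := exists_ne (1 : ↥(center ↥(P : Subgroup H)))
  have hcomm : ∀ x ∈ (P : Subgroup H), x * (c : H) = (c : H) * x := fun x hx =>
    congrArg Subtype.val (mem_center_iff.1 hc ⟨x, hx⟩)
  let cc : Subgroup.centralizer ({z} : Set H) :=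
    ⟨(c : H), mem_centralizer_singleton_iff.2 (hcomm z hzP).symm⟩
  have hccc : ∀ q ∈ Q, q * cc = cc * q := fun q hq =>
    Subtype.ext (hcomm _ (hP ⟨q, hT hq, rfl⟩))
  have hccQ : cc ∈ Q := hcQ hccc
  have h1 : (⟨cc, hccQ⟩ : ↥Q) ∈ center ↥Q :=
    mem_center_iff.2 fun q => Subtype.ext (hccc q q.2)
  have h2 : (⟨zc, hzQ⟩ : ↥Q) ∈ center ↥Q :=
    mem_center_iff.2 fun q => Subtype.ext (Subtype.ext (mem_centralizer_singleton_iff.1 q.1.2))
  have hcz : (c : H) = z := by
    obtain ⟨y, -, hy⟩ := (Nat.card_eq_two_iff' (1 : ↥(center ↥Q))).1 hes.2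
    have e1 := hy ⟨_, h1⟩ fun e => hc1 (Subtype.ext (Subtype.ext
      (congrArg (fun x : ↥(center ↥Q) => ((x : ↥Q).1 : H)) e)))
    have e2 := hy ⟨_, h2⟩ fun e => hz1 (congrArg (fun x : ↥(center ↥Q) => ((x : ↥Q).1 : H)) e)
    exact congrArg (fun x : ↥(center ↥Q) => ((x : ↥Q).1 : H)) (e1.trans e2.symm)
  exact ⟨P, hzP, fun x hx => hcz ▸ hcomm x hx⟩

/-- No element outside a subgroup of index two enters the generalised Fitting subgroup of the
centraliser, unless it acts trivially modulo `Q`. -/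
theorem gfitting_no_outer {X : Type*} [Group X] [Finite X] (G0 : Subgroup X) (hidx : G0.index = 2)
    (z : ↥G0) (Q : Subgroup (Subgroup.centralizer ({z} : Set ↥G0))) [Q.Normal]
    (hF : generalizedFittingSubgroup (Subgroup.centralizer ({z} : Set ↥G0)) = Q) (_hQ2 : IsPGroup 2 Q)
    (hno : ∀ y : X, y ∉ G0 → Commute y (z : X) →
      ∃ c : ↥G0, Commute c z ∧ y * (c : X) * y⁻¹ * (c : X)⁻¹ ∉ (Q.map (Subgroup.subtype _)).map G0.subtype) :
    (generalizedFittingSubgroup ↥(Subgroup.centralizer ({(z : X)} : Set X))).map (Subgroup.subtype _) =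
      (Q.map (Subgroup.subtype _)).map G0.subtype := by
  set C := Subgroup.centralizer ({(z : X)} : Set X) with hC
  have : G0.Normal := normal_of_index_eq_two hidx
  set B := G0.subgroupOf C with hB
  have hz' : ∀ c : Subgroup.centralizer ({z} : Set ↥G0), ((c : ↥G0) : X) ∈ C := fun c =>
    mem_centralizer_singleton_iff.2 (congrArg Subtype.val (mem_centralizer_singleton_iff.1 c.2))
  let e : Subgroup.centralizer ({z} : Set ↥G0) ≃* ↥B :=
    { toFun := fun c => ⟨⟨_, hz' c⟩, (c : ↥G0).2⟩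
      invFun := fun b => ⟨⟨((b : ↥C) : X), b.2⟩, mem_centralizer_singleton_iff.2
        (Subtype.ext (mem_centralizer_singleton_iff.1 (b : ↥C).2))⟩
      left_inv := fun _ => rfl
      right_inv := fun _ => rfl
      map_mul' := fun _ _ => rfl }
  have hmap : ((generalizedFittingSubgroup ↥B).map B.subtype).map C.subtype =
      (Q.map (Subgroup.subtype _)).map G0.subtype := by
    rw [← Layer.map_generalizedFitting_equiv e, hF, Subgroup.map_map, Subgroup.map_map,
      Subgroup.map_map]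
    rfl
  rw [Layer.map_generalizedFitting_normal B] at hmap
  suffices hle : generalizedFittingSubgroup ↥C ≤ B by
    rwa [inf_eq_left.2 hle] at hmap
  intro y hy
  by_contra hyB
  have hyG : ((y : ↥C) : X) ∉ G0 := hyB
  obtain ⟨c, hcz, hcQ⟩ := hno (y : X) hyG (mem_centralizer_singleton_iff.1 y.2)
  let cC : ↥C := ⟨(c : X), mem_centralizer_singleton_iff.2 (congrArg Subtype.val hcz.eq)⟩
  refine hcQ (hmap ▸ ⟨y * cC * y⁻¹ * cC⁻¹, ⟨?_, ?_⟩, rfl⟩)
  · rw [mul_assoc, mul_assoc, ← mul_assoc cC]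
    exact mul_mem hy
      ((inferInstance : (generalizedFittingSubgroup ↥C).Normal).conj_mem _ (inv_mem hy) cC)
  · show (y : X) * (c : X) * (y : X)⁻¹ * (c : X)⁻¹ ∈ G0
    exact mul_mem ((inferInstance : G0.Normal).conj_mem _ c.2 _) (inv_mem c.2)

end Cfsg.Agent.MonsterFischer
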