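import Cfsg.Agent.LargeFischerAut.M24Main
import Cfsg.Agent.Fi24.Simple

/-! An extension of a group of large Fischer type by the outer involution is the presented group,
and the subgroup of index two is its commutator subgroup. -/

set_option autoImplicit false
set_option maxRecDepth 20000
set_option Elab.async false

open Finset Cfsg Cfsg.Agent

namespace Cfsg.Agent.MonsterFischer

open Cfsg.Agent.LargeFischer hiding v1
open Cfsg.Agent.LargeFischerAut Fi22Aut

universe v

variable {X : Type v} [Group X] [Finite X] {G₀ : Subgroup X} {z : ↥G₀}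
  {Q : Subgroup (Subgroup.centralizer ({z} : Set ↥G₀))} [Q.Normal]

theorem m24_iso (hidx : G₀.index = 2) (hF : IsOfLargeFischerTypeAt z Q)
    (hcentral : ∃ P : Sylow 2 ↥G₀, z ∈ (P : Subgroup ↥G₀) ∧ ∀ x ∈ (P : Subgroup ↥G₀), Commute x z)
    (hFX : (Cfsg.generalizedFittingSubgroup ↥(Subgroup.centralizer ({(z : X)} : Set X))).map (Subgroup.subtype _) =
      ((Q.map (Subgroup.subtype _)).map G₀.subtype)) :
    Nonempty (Fi24.G ≃* X) := by
  obtain ⟨S⟩ := Cfsg.Agent.Fi22Aut.exists_setup (z := z) (Q := Q) hF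
  obtain ⟨eK⟩ := S.Kb_iso Cfsg.Agent.LargeFischerAut.recognition
  have A := amb_of hidx hFX
  obtain ⟨y, hyG, hyz, hyt⟩ := exists_outer A S hcentral
  obtain ⟨d, hs, hdt, hd2, hK⟩ := exists_sieg A S eK hyG hyz hyt
  set T0 : ↥(C0 G₀ d) := ⟨(S.tG : X), S.tG.2, Subgroup.mem_centralizer_singleton_iff.2 hdt.symm⟩
  obtain ⟨ho, hq, ⟨hn, ⟨f⟩⟩, hnwc⟩ := LargeFischerAut.main A S eK hs hdt hK T0 rfl
  haveI := hn
  obtain ⟨h3, h4⟩ := Cfsg.Agent.S5402.result T0 ho hq (type22 f) (invol22 f) hnwc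
  obtain ⟨σ, hL, hdd', hσ⟩ := m24_data S A hs hdt hd2 hK T0 rfl h3 h4
  have hdd : d * d = 1 := by rw [← sq, ← hd2]; exact pow_orderOf_eq_one d
  have hab : d * (d * (S.tG : X)) = (S.tG : X) := by rw [← mul_assoc, hdd, one_mul]
  obtain ⟨phi, hinj, hphi⟩ := hL.exists_embed (pair_det S eK A hs hdt hd2 hK T0 rfl h3 h4 hσ)
    (mem_conjugatesOf_self : d ∈ conjugatesOf d)
  have hz1 : (z : X) ≠ 1 := fun h => S.ζ_ne (qX_inj (by rw [qX_ζ, h, map_one]))
  have hr := M24Cent.range_eq_top hL phi hinj hphi (qX (Q := Q)).range mem_conjugatesOf_self hdd' (z_sq S) hz1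
    ((hσ _).2 z.2) hs.commz (by rw [hab]; exact t_not_conj_z S A hdt hs.notMem) ⟨S.ζ, qX_ζ S⟩
    (by rintro _ ⟨q, rfl⟩; exact q_shift_comm S A hs hd2 q)
    (fun x hx => by rw [hab] at hx; exact cent_t_le S A hs hK x hdt hx)
    (fun x hx _ => by
      rw [hab]
      obtain ⟨q', hq'⟩ := A.norm x hx S.t
      exact ⟨q', hq'⟩)
  exact ⟨MulEquiv.ofBijective phi ⟨hinj, MonoidHom.range_eq_top.1 hr⟩⟩

omit [Finite X] in
theorem commutator_of_iso (hidx : G₀.index = 2) (e : Fi24.G ≃* X) :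
    Spor.IsoFi24' ↥G₀ ∧ IsSimpleGroup ↥G₀ ∧ ∃ a b : ↥G₀, a * b ≠ b * a := by
  haveI : G₀.Normal := Subgroup.normal_of_index_eq_two hidx
  have hc : (Fi24.sign.ker).map e.toMonoidHom = G₀ := by
    have hle : (Fi24.sign.ker).map e.toMonoidHom ≤ G₀ := by
      rw [← Fi24.commutator_eq]
      rintro _ ⟨x, hx, rfl⟩
      have hcl : commutator Fi24.G ≤ G₀.comap e.toMonoidHom := by
        rw [_root_.commutator_def, Subgroup.commutator_le]
        intro a _ b _
        rw [Subgroup.mem_comap, map_commutatorElement, commutatorElement_def]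
        rw [Subgroup.mul_mem_iff_of_index_two hidx, Subgroup.mul_mem_iff_of_index_two hidx,
          Subgroup.mul_mem_iff_of_index_two hidx, inv_mem_iff, inv_mem_iff]
        tauto
      exact hcl hx
    have hi : ((Fi24.sign.ker).map e.toMonoidHom).index = 2 := by
      exact (Subgroup.index_map_equiv _ e).trans Fi24.index_ker
    refine le_antisymm hle (Subgroup.relIndex_eq_one.1 ?_)
    have h := Subgroup.relIndex_mul_index hle
    rw [hidx, hi] at h
    omega
  let e0 : ↥Fi24.sign.ker ≃* ↥G₀ :=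
    (e.subgroupMap _).trans (MulEquiv.subgroupCongr hc)
  haveI := Fi24.ker_simple
  haveI : Nontrivial ↥G₀ := e0.symm.toEquiv.nontrivial
  have hs : IsSimpleGroup ↥G₀ :=
    IsSimpleGroup.isSimpleGroup_of_surjective e0.toMonoidHom e0.surjective
  refine ⟨⟨e0.symm.trans (MulEquiv.subgroupCongr Fi24.commutator_eq.symm)⟩, hs, ?_⟩
  by_contra hne
  push Not at hne
  haveI : IsMulCommutative ↥G₀ := ⟨⟨hne⟩⟩
  let _ : CommGroup ↥G₀ := { (inferInstance : Group ↥G₀) with mul_comm := hne }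
  have hcard : Nat.card ↥G₀ = 1255205709190661721292800 :=
    (Nat.card_congr e0.symm.toEquiv).trans Fi24.card_ker
  haveI : Finite ↥G₀ := Nat.finite_of_card_ne_zero (by rw [hcard]; norm_num)
  have hp := (IsSimpleGroup.prime_card (α := ↥G₀))
  rw [hcard] at hp
  exact (Nat.not_prime_of_dvd_of_lt (m := 2) (by norm_num) (by norm_num) (by norm_num)) hp

end Cfsg.Agent.MonsterFischer
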