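import Cfsg.Agent.CentType.Central
import Cfsg.Agent.CentType.MainTwo

/-! The central element of order three is in the derived group of its centraliser. -/

set_option autoImplicit false
set_option maxRecDepth 8000

namespace Cfsg.Agent.MonsterFischer
open Cfsg Cfsg.Agent Cfsg.Agent.Leech Cfsg.Agent.CentType MonsterType
open scoped commutatorElement

/-- an element commuting with the central one -/
def uPerm : Equiv.Perm GolayPt :=
  permOfLists [0, 3, 1, 2, 8, 5, 7, 16, 11, 12, 15, 4, 19, 13, 14, 22, 6, 17, 20, 9, 21, 18, 10, 23]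
    [0, 2, 3, 1, 11, 5, 16, 6, 4, 19, 22, 8, 9, 13, 14, 10, 7, 17, 21, 12, 18, 20, 15, 23]
    (by decide +kernel) (by decide +kernel)

theorem uPerm_mem : uPerm ∈ M24 := mem_M24_of_rows (by decide +kernel)

/-- another one -/
def vPerm : Equiv.Perm GolayPt :=
  permOfLists [18, 0, 5, 17, 11, 20, 16, 6, 12, 8, 22, 15, 9, 23, 13, 4, 7, 21, 1, 10, 2, 3, 19, 14]
    [1, 18, 20, 21, 15, 2, 7, 16, 9, 12, 19, 4, 8, 14, 23, 11, 6, 3, 0, 22, 5, 17, 10, 13]
    (by decide +kernel) (by decide +kernel)

theorem vPerm_mem : vPerm ∈ M24 := mem_M24_of_rows (by decide +kernel)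

/-- in the code group -/
def uM : ↥M24 := ⟨uPerm, uPerm_mem⟩

/-- in the code group -/
def vM : ↥M24 := ⟨vPerm, vPerm_mem⟩

theorem uv_facts : Commute uM Central.sigM ∧ Commute vM Central.sigM ∧
    ⁅uM, vM⁆ = Central.sigM := by
  refine ⟨?_, ?_, ?_⟩
  · exact Subtype.ext (Equiv.ext (show ∀ q, (uPerm * Central.sig) q = (Central.sig * uPerm) q by
      decide +kernel))
  · exact Subtype.ext (Equiv.ext (show ∀ q, (vPerm * Central.sig) q = (Central.sig * vPerm) q by
      decide +kernel))
  · refine Subtype.ext (Equiv.ext ?_)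
    show ∀ q, (uPerm * vPerm * uPerm⁻¹ * vPerm⁻¹) q = Central.sig q
    decide +kernel

theorem setting_sigma : Central.setting.σ = Central.sigM := by rfl

/-- the images commute and have the central one as commutator -/
theorem rho_facts : Commute (rho (liftS uM)) (rho (liftS Central.setting.σ)) ∧
    Commute (rho (liftS vM)) (rho (liftS Central.setting.σ)) ∧
    ⁅rho (liftS uM), rho (liftS vM)⁆ = rho (liftS Central.setting.σ) := by
  obtain ⟨h1, h2, h3⟩ := uv_facts
  rw [setting_sigma]
  refine ⟨(h1.map permHom).map rho, (h2.map permHom).map rho, ?_⟩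
  rw [← map_commutatorElement rho (permHom uM) (permHom vM), ← map_commutatorElement permHom uM vM, h3]

theorem mem_derived_centralizer {H : Type*} [Group H] {a b s : H} (h1 : Commute a s) (h2 : Commute b s)
    (h3 : ⁅a, b⁆ = s) : s ∈ ⁅Subgroup.centralizer ({s} : Set H), Subgroup.centralizer ({s} : Set H)⁆ := by
  have key := Subgroup.commutator_mem_commutator
    (Subgroup.mem_centralizer_singleton_iff.2 h1.eq : a ∈ Subgroup.centralizer ({s} : Set H))
    (Subgroup.mem_centralizer_singleton_iff.2 h2.eq : b ∈ Subgroup.centralizer ({s} : Set H))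
  rwa [h3] at key

theorem sigma_derived : rho (liftS Central.setting.σ) ∈
    ⁅Subgroup.centralizer ({rho (liftS Central.setting.σ)} : Set Spor.Co1),
      Subgroup.centralizer ({rho (liftS Central.setting.σ)} : Set Spor.Co1)⁆ :=
  mem_derived_centralizer rho_facts.1 rho_facts.2.1 rho_facts.2.2

theorem generator_derived {G : Type*} [Group G] [Finite G] {z : G}
    {Q : Subgroup (Subgroup.centralizer ({z} : Set G))} [Q.Normal]
    {e : (Subgroup.centralizer ({z} : Set G)) ⧸ Q ≃* Spor.Co1}
    {ψ : leechLattice → Q ⧸ Subgroup.center Q} (d : MonsterType.Data Q e ψ)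
    (b : Subgroup.centralizer ({z} : Set G)) (hb : orderOf b = 3)
    (hp : proj e b = rho (liftS Central.setting.σ)) :
    (b : G) ∈ ⁅Subgroup.centralizer ({(b : G)} : Set G), Subgroup.centralizer ({(b : G)} : Set G)⁆ := by
  haveI : Fact (Nat.Prime 3) := ⟨Nat.prime_three⟩
  obtain ⟨h1, h2, h3⟩ := rho_facts
  obtain ⟨t, ht, htb⟩ := exists_lift Central.setting (by norm_num) d hb hp (y := rho (liftS uM)) (k := 1)
    (by rw [pow_one, h1.eq, mul_inv_cancel_right])
  obtain ⟨s, hs, hsb⟩ := exists_lift Central.setting (by norm_num) d hb hp (y := rho (liftS vM)) (k := 1)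
    (by rw [pow_one, h2.eq, mul_inv_cancel_right])
  rw [pow_one, mul_inv_eq_iff_eq_mul] at htb hsb
  set q : Subgroup.centralizer ({z} : Set G) := b⁻¹ * ⁅t, s⁆ with hq
  have hqQ : q ∈ Q := by
    rw [← proj_eq_one (e := e), hq, map_mul, map_inv, map_commutatorElement, ht, hs, h3, hp, inv_mul_cancel]
  have hbc : Commute b ⁅t, s⁆ := by
    have ct : Commute b t := htb.symm
    have cs : Commute b s := hsb.symm
    rw [commutatorElement_def]
    exact ((ct.mul_right cs).mul_right ct.inv_right).mul_right cs.inv_right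
  have hcb : Commute b q := (Commute.refl b).inv_right.mul_right hbc
  have hqpow : q ^ (2 ^ 25 * 2 ^ 25) = 1 := by
    have h := pow_card_eq_one' (G := ↥Q) (x := ⟨q, hqQ⟩)
    rw [d.card] at h
    have h' : q ^ (2 ^ 25) = 1 := congrArg Subtype.val h
    rw [pow_mul, h', one_pow]
  have hpow : ⁅t, s⁆ ^ (2 ^ 25 * 2 ^ 25) = b := by
    have e1 : ⁅t, s⁆ = b * q := by rw [hq, mul_inv_cancel_left]
    rw [e1, hcb.mul_pow, hqpow, mul_one, ← pow_mod_orderOf, hb]
    norm_num
  have hmem : ∀ {x : Subgroup.centralizer ({z} : Set G)}, x * b = b * x →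
      (x : G) ∈ Subgroup.centralizer ({(b : G)} : Set G) := fun h =>
    Subgroup.mem_centralizer_singleton_iff.2 (congrArg Subtype.val h)
  have key : (⁅t, s⁆ : Subgroup.centralizer ({z} : Set G)) ∈
      ⁅Subgroup.centralizer ({b} : Set (Subgroup.centralizer ({z} : Set G))),
        Subgroup.centralizer ({b} : Set (Subgroup.centralizer ({z} : Set G)))⁆ :=
    Subgroup.commutator_mem_commutator (Subgroup.mem_centralizer_singleton_iff.2 htb)
      (Subgroup.mem_centralizer_singleton_iff.2 hsb)
  have hmap : (Subgroup.centralizer ({b} : Set (Subgroup.centralizer ({z} : Set G)))).map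
      (Subgroup.centralizer ({z} : Set G)).subtype ≤ Subgroup.centralizer ({(b : G)} : Set G) := by
    rintro _ ⟨x, hx, rfl⟩
    exact hmem (Subgroup.mem_centralizer_singleton_iff.1 hx)
  have key' := Subgroup.pow_mem _ key (2 ^ 25 * 2 ^ 25)
  rw [hpow] at key'
  have h' := Subgroup.mem_map_of_mem (Subgroup.centralizer ({z} : Set G)).subtype key'
  rw [Subgroup.map_commutator] at h'
  exact Subgroup.commutator_mono hmap hmap h'

end Cfsg.Agent.MonsterFischer
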