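import Mathlib

/-! An element moving a member of the derived subgroup of a centraliser does not centralise that
centraliser modulo the member. -/

set_option autoImplicit false

namespace Cfsg.Agent.MonsterFischer

variable {Γ : Type*} [Group Γ]

/-- moving a member of the derived group of its centraliser gives a commutator outside its powers -/
theorem exists_outside_of_derived {s y : Γ}
    (hs : s ∈ ⁅Subgroup.centralizer ({s} : Set Γ), Subgroup.centralizer ({s} : Set Γ)⁆)
    (hy : y * s * y⁻¹ ≠ s) :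
    ∃ c ∈ Subgroup.centralizer ({s} : Set Γ), y * c * y⁻¹ * c⁻¹ ∉ Subgroup.zpowers s := by
  by_contra hno
  push Not at hno
  set C := Subgroup.centralizer ({s} : Set Γ)
  have hcom : ∀ c ∈ C, ∀ m : ℤ, Commute (s ^ m) c := fun c hc m =>
    (show Commute s c from (Subgroup.mem_centralizer_singleton_iff.1 hc).symm).zpow_left m
  have hfix : ∀ x ∈ ⁅C, C⁆, y * x * y⁻¹ = x := by
    intro x hx
    rw [Subgroup.commutator_def] at hx
    induction hx using Subgroup.closure_induction with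
    | mem g hg =>
      obtain ⟨a, ha, b, hb, rfl⟩ := hg
      obtain ⟨i, hi⟩ := Subgroup.mem_zpowers_iff.1 (hno a ha)
      obtain ⟨j, hj⟩ := Subgroup.mem_zpowers_iff.1 (hno b hb)
      have ea : y * a * y⁻¹ = s ^ i * a := by rw [hi, inv_mul_cancel_right]
      have eb : y * b * y⁻¹ = s ^ j * b := by rw [hj, inv_mul_cancel_right]
      rw [commutatorElement_def]
      calc y * (a * b * a⁻¹ * b⁻¹) * y⁻¹
          = (y * a * y⁻¹) * (y * b * y⁻¹) * (y * a * y⁻¹)⁻¹ * (y * b * y⁻¹)⁻¹ := by group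
        _ = s ^ i * (a * s ^ j) * b * a⁻¹ * (s ^ i)⁻¹ * b⁻¹ * (s ^ j)⁻¹ := by rw [ea, eb]; group
        _ = s ^ i * (s ^ j * a) * b * a⁻¹ * ((s ^ i)⁻¹ * b⁻¹) * (s ^ j)⁻¹ := by
            rw [← (hcom a ha j).eq]; group
        _ = s ^ i * s ^ j * (a * b * a⁻¹ * b⁻¹) * (s ^ i)⁻¹ * (s ^ j)⁻¹ := by
            rw [((hcom b hb i).inv_left.inv_right).eq]; group
        _ = a * b * a⁻¹ * b⁻¹ := by
            have hk : a * b * a⁻¹ * b⁻¹ ∈ C :=
              C.mul_mem (C.mul_mem (C.mul_mem ha hb) (C.inv_mem ha)) (C.inv_mem hb)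
            rw [← zpow_add, (hcom _ hk (i + j)).eq]
            group
    | one => group
    | mul g h _ _ hg hh => rw [show y * (g * h) * y⁻¹ = (y * g * y⁻¹) * (y * h * y⁻¹) by group, hg, hh]
    | inv g _ hg => rw [show y * g⁻¹ * y⁻¹ = (y * g * y⁻¹)⁻¹ by group, hg]
  exact hy (hfix s hs)

/-- the same for an element squaring it -/
theorem exists_outside_of_sq {s y : Γ} (hne : s ≠ 1)
    (hs : s ∈ ⁅Subgroup.centralizer ({s} : Set Γ), Subgroup.centralizer ({s} : Set Γ)⁆)
    (hy : y * s * y⁻¹ = s ^ 2) :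
    ∃ c ∈ Subgroup.centralizer ({s} : Set Γ), y * c * y⁻¹ * c⁻¹ ∉ Subgroup.zpowers s :=
  exists_outside_of_derived hs fun e => hne (by
    rw [hy, pow_two] at e
    exact mul_eq_right.1 e)

end Cfsg.Agent.MonsterFischer
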