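import Mathlib
import Cfsg.Agent.CentType.MainTwo

/-! The large Fischer type setting in the quotient of the centraliser of a three-element, with the
involution and its radical identified. -/

set_option autoImplicit false

namespace Cfsg.Agent.MonsterFischer
open Cfsg Cfsg.Agent MonsterType CentType
open scoped commutatorElement

variable {G : Type*} [Group G] [Finite G] {z : G}
  {Q : Subgroup (Subgroup.centralizer ({z} : Set G))} [Q.Normal]
  {e : (Subgroup.centralizer ({z} : Set G)) ⧸ Q ≃* Spor.Co1}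
  {ψ : leechLattice → Q ⧸ Subgroup.center Q}
  {p w : ℕ} [hpr : Fact p.Prime] {L : Type} [Group L]

set_option maxHeartbeats 1600000 in
theorem settingAt (S : Setting p w L) (hodd : p ≠ 2)
    (htwo : ∀ N : Subgroup L, N.Normal → IsPGroup 2 ↥N → N = ⊥)
    (d : Data Q e ψ) (hex : ∃ g : G, ∃ y : Q,
      g * z * g⁻¹ = ((y : Subgroup.centralizer ({z} : Set G)) : G) ∧ g * z * g⁻¹ ≠ z)
    {x : Q} (hstd : StdPoint d x)
    (b : Subgroup.centralizer ({z} : Set G)) (hb : orderOf b = p) (hp : proj e b = rho (liftS S.σ))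
    (hbx : b ∈ jointC x) (hgood : SylCentral p (⟨b, hbx⟩ : jointC x) ↔ S.central)
    (B : Subgroup G) (hB : B = Subgroup.zpowers (b : G))
    {H : Type*} [Group H] [Finite H] (π : ↥(Subgroup.centralizer (B : Set G)) →* H)
    (hπ : Function.Surjective π) (hπker : ∀ a, π a = 1 ↔ (a : G) ∈ B) :
    ∃ (zb : H) (R : Subgroup (Subgroup.centralizer ({zb} : Set H))) (_ : R.Normal),
      IsExtraspecialCentralizerSetting zb R w ∧
      Nonempty ((Subgroup.centralizer ({zb} : Set H)) ⧸ R ≃* L) ∧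
      (∀ a : ↥(Subgroup.centralizer (B : Set G)), (a : G) = z → π a = zb) ∧
      ∀ u ∈ R, ∃ (a : ↥(Subgroup.centralizer (B : Set G))) (q : Subgroup.centralizer ({z} : Set G)),
        q ∈ Q ∧ (a : G) = (q : G) ∧ π a = (u : H) := by
  revert π hπ hπker
  set C1 := Subgroup.centralizer (B : Set G) with hC1
  intro π hπ hπker
  have hx64 : Typ ψ 64 x := hstd.typ
  have hx := hstd.std
  set ζ : Q := ⟨zc z, zc_mem d⟩ with hζ
  have hζc : ζ ∈ Subgroup.center Q := zq_center d
  have hζ1 : ζ ≠ 1 := zq_ne_one d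
  have hz0 := z_sq d
  have hb7 : b ^ p = 1 := by rw [← hb]; exact pow_orderOf_eq_one b
  have hmemC1 : ∀ a : G, a ∈ C1 ↔ a * (b : G) = (b : G) * a := by
    intro a
    rw [hC1, hB, Subgroup.mem_centralizer_iff]
    constructor
    · intro h; exact (h _ (Subgroup.mem_zpowers _)).symm
    · intro h y hy
      obtain ⟨n, rfl⟩ := Subgroup.mem_zpowers_iff.1 hy
      exact ((show Commute a (b : G) from h).zpow_right n).eq.symm
  have hBpow : ∀ {a : G}, a ∈ B → ∃ i : ℕ, a = (b : G) ^ i := by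
    intro a ha
    rw [hB, ← mem_powers_iff_mem_zpowers, Submonoid.mem_powers_iff] at ha
    obtain ⟨i, hi⟩ := ha
    exact ⟨i, hi.symm⟩
  have hBQ : ∀ a : Subgroup.centralizer ({z} : Set G), a ∈ Q → (a : G) ∈ B → a = 1 := by
    intro a ha haB
    obtain ⟨i, hi⟩ := hBpow haB
    refine two_power hodd d ha (Subtype.ext ?_)
    show (a : G) ^ p = 1
    rw [hi, ← pow_mul, mul_comm, pow_mul, ← SubmonoidClass.coe_pow, hb7, Subgroup.coe_one, one_pow]
  have hzb : z * (b : G) = (b : G) * z := (Subgroup.mem_centralizer_singleton_iff.1 b.2).symm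
  have hzC1 : z ∈ C1 := (hmemC1 z).2 hzb
  set zb : H := π ⟨z, hzC1⟩ with hzbd
  set Cb := Subgroup.centralizer ({zb} : Set H) with hCb
  set CC := Subgroup.centralizer ({b} : Set (Subgroup.centralizer ({z} : Set G))) with hCC
  have hmemCC : ∀ c : Subgroup.centralizer ({z} : Set G), c ∈ CC ↔ c * b = b * c := fun c =>
    Subgroup.mem_centralizer_singleton_iff
  have hCC1 : ∀ c : CC, ((c : Subgroup.centralizer ({z} : Set G)) : G) ∈ C1 := fun c =>
    (hmemC1 _).2 (congrArg Subtype.val ((hmemCC _).1 c.2))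
  let toC1 : CC →* C1 :=
    { toFun := fun c => ⟨_, hCC1 c⟩, map_one' := rfl, map_mul' := fun _ _ => rfl }
  have hμmem : ∀ c : CC, π (toC1 c) ∈ Cb := fun c => by
    refine Subgroup.mem_centralizer_singleton_iff.2 ?_
    rw [hzbd, ← map_mul, ← map_mul]
    congr 1
    refine Subtype.ext ?_
    exact congrArg (fun a : Subgroup.centralizer ({z} : Set G) => (a : G))
      (commute_zc (c : Subgroup.centralizer ({z} : Set G))).eq.symm
  let μ : CC →* Cb := (π.comp toC1).codRestrict Cb hμmem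
  have hμker : ∀ {a : CC}, μ a = 1 ↔ ((a : Subgroup.centralizer ({z} : Set G)) : G) ∈ B := fun {a} =>
    ⟨fun ha => (hπker (toC1 a)).1 (congrArg Subtype.val ha),
      fun ha => Subtype.ext ((hπker (toC1 a)).2 ha)⟩
  -- the quotient involution centraliser comes from the centraliser of `z`
  have hμsurj : Function.Surjective μ := by
    rintro ⟨y, hy⟩
    obtain ⟨a, rfl⟩ := hπ y
    have h1 := Subgroup.mem_centralizer_singleton_iff.1 hy
    rw [hzbd, ← map_mul, ← map_mul] at h1
    have h1' : π ((a * ⟨z, hzC1⟩)⁻¹ * (⟨z, hzC1⟩ * a)) = 1 := by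
      rw [map_mul, map_inv, h1, inv_mul_cancel]
    obtain ⟨i, hi⟩ := hBpow ((hπker _).1 h1')
    simp only [Subgroup.coe_mul, Subgroup.coe_inv] at hi
    have hab : (a : G) * (b : G) = (b : G) * (a : G) := (hmemC1 _).1 a.2
    have hconj : (a : G)⁻¹ * z * (a : G) = z * (b : G) ^ i := by
      rw [← hi, show z * (((a : G) * z)⁻¹ * (z * (a : G))) = z * z⁻¹ * ((a : G)⁻¹ * z * (a : G)) by group,
        mul_inv_cancel, one_mul]
    have hi1 : (b : G) ^ (i * 2) = 1 := by
      have h2 : ((a : G)⁻¹ * z * (a : G)) * ((a : G)⁻¹ * z * (a : G)) = 1 := by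
        rw [show (a : G)⁻¹ * z * (a : G) * ((a : G)⁻¹ * z * (a : G)) = (a : G)⁻¹ * (z * z) * (a : G) by group,
          hz0]
        group
      rw [hconj, show z * (b : G) ^ i * (z * (b : G) ^ i) = z * ((b : G) ^ i * z) * (b : G) ^ i by group,
        ← ((show Commute z (b : G) from hzb).pow_right i).eq, ← mul_assoc, hz0, one_mul, ← pow_add] at h2
      rwa [mul_two]
    have hb7G : orderOf (b : G) = p := by rw [Subgroup.orderOf_coe, hb]
    have hi7 : p ∣ i := by
      have := orderOf_dvd_of_pow_eq_one hi1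
      rw [hb7G] at this
      exact (Nat.Coprime.dvd_of_dvd_mul_right ((Nat.coprime_primes hpr.out Nat.prime_two).2 hodd) this)
    have hone : (b : G) ^ i = 1 := orderOf_dvd_iff_pow_eq_one.1 (hb7G ▸ hi7)
    rw [hone, mul_one] at hconj
    have haz : (a : G) * z = z * (a : G) := by
      conv_lhs => rw [← hconj]
      group
    exact ⟨⟨⟨a, Subgroup.mem_centralizer_singleton_iff.2 haz⟩, (hmemCC _).2 (Subtype.ext hab)⟩, rfl⟩
  set CQ := Q.subgroupOf CC with hCQ
  set R := CQ.map μ with hR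
  have hRn : R.Normal := (inferInstance : CQ.Normal).map μ hμsurj
  have hμinj : ∀ a ∈ CQ, μ a = 1 → a = 1 := fun a ha h => Subtype.ext (hBQ _ ha (hμker.1 h))
  have hμinj' : ∀ a ∈ CQ, ∀ a' ∈ CQ, μ a = μ a' → a = a' := fun a ha a' ha' h =>
    inv_mul_eq_one.1 (hμinj _ (CQ.mul_mem (CQ.inv_mem ha) ha') (by rw [map_mul, map_inv, h, inv_mul_cancel]))
  have hζCC : (ζ : Subgroup.centralizer ({z} : Set G)) ∈ CC := (hmemCC _).2 (commute_zc b).eq
  set ζ' : CC := ⟨ζ, hζCC⟩ with hζ'
  set zbC : Cb := μ ζ' with hzbC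
  have hzbval : (zbC : H) = zb := rfl
  have hzne : zbC ≠ 1 := fun h => hζ1 (Subtype.ext (congrArg (fun y : CC => (y : Subgroup.centralizer ({z} : Set G))) (hμinj ζ' ζ.2 h)))
  set wR : R := ⟨zbC, ζ', ζ.2, rfl⟩ with hwR
  have hwne : wR ≠ 1 := fun h => hzne (congrArg Subtype.val h)
  -- elements of `Q` commuting with `b` and their classes
  have hfixq : ∀ {q : Q} {v : leechLattice}, ψ v = QuotientGroup.mk q →
      ((q : Subgroup.centralizer ({z} : Set G)) ∈ CC ↔ Leech.cls (liftS S.σ • v) = Leech.cls v) := by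
    intro q v hv
    rw [hmemCC, eq_comm]
    exact commute_b_iff S hodd d hb7 hp hv
  have hclass : ∀ q : Q, (q : Subgroup.centralizer ({z} : Set G)) ∈ CC →
      ∃ k, ψ (S.rep k) = QuotientGroup.mk q := by
    intro q hq
    obtain ⟨v, hv⟩ := d.hψ.2.1 (QuotientGroup.mk q)
    obtain ⟨k, hk⟩ := S.rep_surj v ((hfixq hv).1 hq)
    exact ⟨k, ((psi_congr d).2 hk).trans hv⟩
  have hlift : ∀ k, ∀ q : Q, ψ (S.rep k) = QuotientGroup.mk q →
      (q : Subgroup.centralizer ({z} : Set G)) ∈ CC := fun k q hq => (hfixq hq).2 (S.rep_fix k)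
  have hinjk : Function.Injective fun k => ψ (S.rep k) := fun a c h =>
    S.rep_inj ((psi_congr d).1 h)
  have hpre : ∀ U : Set (Fin (2 * w) → ZMod 2),
      Nat.card ↥(QuotientGroup.mk ⁻¹' ((fun k => ψ (S.rep k)) '' U) : Set Q) = 2 * U.ncard := by
    intro U
    have hc2 : Nat.card ↥(Subgroup.center Q) = 2 := by
      have hset : (Subgroup.center Q : Set Q) = {1, ζ} := by
        ext a
        simp only [SetLike.mem_coe, Set.mem_insert_iff, Set.mem_singleton_iff]
        exact ⟨center_cases d, by rintro (rfl | rfl); exacts [Subgroup.one_mem _, hζc]⟩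
      refine (Nat.card_coe_set_eq (Subgroup.center Q : Set Q)).trans ?_
      rw [hset, Set.ncard_pair hζ1.symm]
    rw [Nat.card_congr (QuotientGroup.preimageMkEquivSubgroupProdSet _ _), Nat.card_prod, hc2,
      Nat.card_coe_set_eq, Set.ncard_image_of_injective _ hinjk]
  have hCQset : ∀ q : Q, (q : Subgroup.centralizer ({z} : Set G)) ∈ CC ↔
      q ∈ (QuotientGroup.mk ⁻¹' ((fun k => ψ (S.rep k)) '' Set.univ) : Set Q) := fun q =>
    ⟨fun h => (hclass q h).imp fun k hk => ⟨trivial, hk⟩, fun ⟨k, _, hk⟩ => hlift k q hk⟩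
  have hCQcard : Nat.card CQ = 2 ^ (2 * w + 1) := by
    have h := hpre Set.univ
    rw [Set.ncard_univ] at h
    simp only [Nat.card_eq_fintype_card (α := Fin (2 * w) → ZMod 2), Fintype.card_fun, ZMod.card, Fintype.card_fin] at h
    rw [pow_succ', ← h]
    exact Nat.card_congr ⟨fun a => ⟨⟨_, a.2⟩, (hCQset _).1 a.1.2⟩,
      fun q => ⟨⟨_, (hCQset _).2 q.2⟩, q.1.2⟩, fun _ => rfl, fun _ => rfl⟩
  have hRcard : Nat.card R = 2 ^ (2 * w + 1) := by
    rw [← hCQcard]
    exact (Nat.card_congr (Equiv.ofBijective (fun a : CQ => (⟨μ a, a.1, a.2, rfl⟩ : R))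
      ⟨fun a a' h => Subtype.ext (hμinj' _ a.2 _ a'.2 (congrArg Subtype.val h)),
        by rintro ⟨_, a, ha, rfl⟩; exact ⟨⟨a, ha⟩, rfl⟩⟩)).symm
  have hR2 : IsPGroup 2 R := IsPGroup.of_card hRcard
  have hcom1 : ∀ a ∈ CQ, ∀ a' ∈ CQ, μ a * μ a' = μ a' * μ a ∨ μ a * μ a' = zbC * (μ a' * μ a) := by
    intro a ha a' ha'
    rcases center_cases d (comm_mem_center d (⟨a, ha⟩ : Q) ⟨a', ha'⟩) with h | h
    · left
      rw [mul_inv_eq_one, mul_inv_eq_iff_eq_mul] at h
      rw [← map_mul, ← map_mul]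
      exact congrArg μ (Subtype.ext (congrArg (fun q : Q => (q : Subgroup.centralizer ({z} : Set G))) h))
    · right
      rw [mul_inv_eq_iff_eq_mul, mul_inv_eq_iff_eq_mul, mul_assoc] at h
      rw [← map_mul, ← map_mul, hzbC, ← map_mul]
      exact congrArg μ (Subtype.ext (congrArg (fun q : Q => (q : Subgroup.centralizer ({z} : Set G))) h))
  have hsq1 : ∀ a ∈ CQ, μ a * μ a = 1 ∨ μ a * μ a = zbC := by
    intro a ha
    obtain ⟨v, hv⟩ := d.hψ.2.1 (QuotientGroup.mk (⟨a, ha⟩ : Q))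
    have hc : (⟨a, ha⟩ : Q) * ⟨a, ha⟩ ∈ Subgroup.center Q := by
      rw [← QuotientGroup.eq_one_iff, QuotientGroup.mk_mul, ← hv, ← d.hψ.1, d.hψ.2.2.1]
      exact ⟨v, rfl⟩
    rw [← map_mul]
    rcases center_cases d hc with h | h
    · left
      rw [show a * a = 1 from Subtype.ext (congrArg (fun q : Q => (q : Subgroup.centralizer ({z} : Set G))) h),
        map_one]
    · right
      rw [hzbC]
      exact congrArg μ (Subtype.ext (congrArg (fun q : Q => (q : Subgroup.centralizer ({z} : Set G))) h))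
  have hpartner : ∀ q : Q, (q : Subgroup.centralizer ({z} : Set G)) ∈ CC → q ∉ Subgroup.center Q →
      ∃ r : Q, (r : Subgroup.centralizer ({z} : Set G)) ∈ CC ∧ q * r ≠ r * q := by
    intro q hq hqc
    obtain ⟨k, hk⟩ := hclass q hq
    have hk0 : k ≠ 0 := by
      rintro rfl
      refine hqc ((QuotientGroup.eq_one_iff q).1 ?_)
      rw [← hk, (psi_congr d).2 S.rep_zero, psi_zero d]
    obtain ⟨l, hl, hdot⟩ := S.partner k hk0
    obtain ⟨r, hr⟩ := QuotientGroup.mk_surjective (ψ (S.rep l))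
    refine ⟨r, hlift l r hr.symm, fun hc => hdot ?_⟩
    have hsq : r ^ 2 = 1 := (sq_iff d hr.symm).2 (by rcases hl with h | h <;> rw [h] <;> decide)
    exact (commute_iff d hk hr.symm hsq).1 hc
  have hcenR : ∀ c ∈ Subgroup.center R, c = 1 ∨ c = wR := by
    rintro ⟨_, a, ha, rfl⟩ hc
    by_cases hqc : (⟨a, ha⟩ : Q) ∈ Subgroup.center Q
    · rcases center_cases d hqc with h | h
      · left
        refine Subtype.ext ?_
        show μ a = 1
        rw [show a = 1 from Subtype.ext (congrArg (fun q : Q => (q : Subgroup.centralizer ({z} : Set G))) h),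
          map_one]
      · right
        exact Subtype.ext (congrArg μ (Subtype.ext (congrArg (fun q : Q => (q : Subgroup.centralizer ({z} : Set G))) h)))
    · exfalso
      obtain ⟨r, hr, hne⟩ := hpartner _ a.2 hqc
      set r' : CC := ⟨r, hr⟩ with hr'
      have h := congrArg Subtype.val (Subgroup.mem_center_iff.1 hc ⟨μ r', r', r.2, rfl⟩)
      change μ r' * μ a = μ a * μ r' at h
      rw [← map_mul, ← map_mul] at h
      have h2 := hμinj' _ (CQ.mul_mem r.2 ha) _ (CQ.mul_mem ha r.2) h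
      exact hne (Subtype.ext (congrArg (fun y : CC => (y : Subgroup.centralizer ({z} : Set G))) h2).symm)
  have hwc : wR ∈ Subgroup.center R := Subgroup.mem_center_iff.2 fun r => Subtype.ext (by
    refine Subtype.ext ?_
    exact Subgroup.mem_centralizer_singleton_iff.1 (r : Cb).2)
  have hww : wR * wR = 1 := Subtype.ext (by
    show μ ζ' * μ ζ' = 1
    rw [← map_mul, show ζ' * ζ' = 1 from Subtype.ext (Subtype.ext hz0), map_one])
  have hExt : IsExtraspecial 2 R := by
    refine LargeExtra.extraspecial_of hR2 hwne hww hwc hcenR ?_ ?_ ?_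
    · rintro ⟨_, a, ha, rfl⟩ ⟨_, a', ha', rfl⟩
      rw [commutatorElement_def]
      rcases hcom1 a ha a' ha' with h | h
      · left; refine Subtype.ext ?_
        show μ a * μ a' * (μ a)⁻¹ * (μ a')⁻¹ = 1
        rw [h]; group
      · right; refine Subtype.ext ?_
        show μ a * μ a' * (μ a)⁻¹ * (μ a')⁻¹ = zbC
        rw [h]; group
    · rintro ⟨_, a, ha, rfl⟩
      rcases hsq1 a ha with h | h
      · exact Or.inl (Subtype.ext h)
      · exact Or.inr (Subtype.ext h)
    · obtain ⟨r, hr, hne⟩ := hpartner x (hfixq hx |>.2 (oct_fixed_perm S.σ))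
        (typ_notMem_center d (Or.inr (Or.inr rfl)) hx64)
      set x' : CC := ⟨x, hfixq hx |>.2 (oct_fixed_perm S.σ)⟩
      refine ⟨⟨μ x', x', x.2, rfl⟩, ⟨μ ⟨r, hr⟩, _, r.2, rfl⟩, fun h => hne ?_⟩
      have h' := congrArg Subtype.val h
      change μ x' * μ _ = μ _ * μ x' at h'
      rw [← map_mul, ← map_mul] at h'
      have h2 := hμinj' _ (CQ.mul_mem x.2 r.2) _ (CQ.mul_mem r.2 x.2) h'
      exact Subtype.ext (congrArg (fun y : CC => (y : Subgroup.centralizer ({z} : Set G))) h2)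
  -- the quotient
  set Cbar := Subgroup.centralizer ({rho (liftS S.σ)} : Set Spor.Co1) with hCbar
  have hκmem : ∀ c : CC, proj e c ∈ Cbar := fun c => Subgroup.mem_centralizer_singleton_iff.2 (by
    rw [← hp, ← map_mul, ← map_mul]; exact congrArg (proj e) ((hmemCC _).1 c.2))
  let κ0 : CC →* ↥Cbar := ((proj e).comp CC.subtype).codRestrict Cbar hκmem
  let κ : CC →* L := S.toQuot.comp κ0
  have hκsurj : Function.Surjective κ := fun g => by
    obtain ⟨y, rfl⟩ := S.toQuot_surjective g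
    obtain ⟨t, ht, htb⟩ := exists_lift S hodd d hb hp (y := (y : Spor.Co1)) (k := 1) (by
      rw [pow_one, Subgroup.mem_centralizer_singleton_iff.1 y.2, mul_inv_cancel_right])
    rw [pow_one, mul_inv_eq_iff_eq_mul] at htb
    exact ⟨⟨t, (hmemCC t).2 htb⟩, congrArg S.toQuot (Subtype.ext ht)⟩
  have hbCC : b ∈ CC := (hmemCC b).2 rfl
  have hκker : ∀ {c : CC}, κ c = 1 → μ c ∈ R := fun {c} hc => by
    have hm : proj e (c : Subgroup.centralizer ({z} : Set G)) ∈ Subgroup.zpowers (rho (liftS S.σ)) :=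
      (S.toQuot_ker _).1 hc
    obtain ⟨i, hi⟩ := Subgroup.mem_zpowers_iff.1 hm
    set b1 : CC := ⟨b, hbCC⟩
    have hq : ((c * (b1 ^ i)⁻¹ : CC) : Subgroup.centralizer ({z} : Set G)) ∈ Q := by
      rw [← proj_eq_one (e := e)]
      simp only [Subgroup.coe_mul, Subgroup.coe_inv, SubgroupClass.coe_zpow, map_mul, map_inv, map_zpow,
        show (b1 : Subgroup.centralizer ({z} : Set G)) = b from rfl, hp, hi, mul_inv_cancel]
    have hb1 : μ b1 = 1 := hμker.2 (hB ▸ Subgroup.mem_zpowers _)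
    exact ⟨c * (b1 ^ i)⁻¹, hq, by rw [map_mul, map_inv, map_zpow, hb1, one_zpow, inv_one, mul_one]⟩
  have hμκ : μ.ker ≤ κ.ker := fun c hc => by
    obtain ⟨i, hi⟩ := hBpow (hμker.1 (MonoidHom.mem_ker.1 hc))
    refine MonoidHom.mem_ker.2 ((S.toQuot_ker _).2 ?_)
    show proj e (c : Subgroup.centralizer ({z} : Set G)) ∈ _
    rw [show (c : Subgroup.centralizer ({z} : Set G)) = b ^ i from Subtype.ext hi, map_pow, hp]
    exact Subgroup.npow_mem_zpowers _ _
  let Θ : Cb →* L :=
    μ.liftOfRightInverse (Function.surjInv hμsurj) (Function.rightInverse_surjInv hμsurj) ⟨κ, hμκ⟩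
  have hΘ : ∀ c, Θ (μ c) = κ c := fun c => μ.liftOfRightInverse_comp_apply _ _ _ c
  have hΘsurj : Function.Surjective Θ := fun g => by
    obtain ⟨c, hc⟩ := hκsurj g
    exact ⟨μ c, (hΘ c).trans hc⟩
  have hΘker : Θ.ker = R := by
    ext y
    obtain ⟨c, rfl⟩ := hμsurj y
    rw [MonoidHom.mem_ker, hΘ]
    refine ⟨hκker, ?_⟩
    rintro ⟨a, ha, hac⟩
    rw [← hΘ, ← hac, hΘ]
    refine (S.toQuot_ker _).2 ?_
    show proj e (a : Subgroup.centralizer ({z} : Set G)) ∈ _
    rw [show proj e (a : Subgroup.centralizer ({z} : Set G)) = 1 from proj_eq_one.2 ha]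
    exact Subgroup.one_mem _
  let eb : Cb ⧸ R ≃* L :=
    (QuotientGroup.quotientMulEquivOfEq hΘker.symm).trans
      (QuotientGroup.quotientKerEquivOfSurjective Θ hΘsurj)
  refine ⟨zb, R, hRn, ⟨?_, ?_, hExt, hRcard, ?_⟩, ⟨eb⟩, fun a ha => ?_, ?_⟩
  · rw [← hzbval, Subgroup.orderOf_coe]
    exact orderOf_eq_prime (by rw [sq]; exact congrArg Subtype.val hww) hzne
  · -- generalised Fitting subgroup
    have hCR : ∀ y ∈ Subgroup.centralizer (R : Set Cb), y ∈ R := by
      intro y hy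
      obtain ⟨c, rfl⟩ := hμsurj y
      rw [← hΘker, MonoidHom.mem_ker, hΘ]
      obtain ⟨g, hge⟩ := QuotientGroup.mk'_surjective _ (proj e (c : Subgroup.centralizer ({z} : Set G)))
      change rho g = _ at hge
      have hcl : ∀ k, Leech.cls (g • S.rep k) = Leech.cls (S.rep k) := by
        intro k
        obtain ⟨q, hq⟩ := QuotientGroup.mk_surjective (ψ (S.rep k))
        have hqC := hlift k q hq.symm
        set q' : CC := ⟨q, hqC⟩
        have h1 := Subgroup.mem_centralizer_iff.1 hy (μ q') ⟨q', q.2, rfl⟩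
        have h2 : μ (c * q' * c⁻¹) = μ q' := by
          rw [map_mul, map_mul, map_inv, ← h1]; group
        have h3 := hμinj' _ ((inferInstance : CQ.Normal).conj_mem q' q.2 c) _ q.2 h2
        have h4 := d.hψ.2.2.2 (c : Subgroup.centralizer ({z} : Set G)) g hge (S.rep k) q hq.symm
        rw [show (⟨(c : Subgroup.centralizer ({z} : Set G)) * q * (c : Subgroup.centralizer ({z} : Set G))⁻¹,
          (inferInstance : Q.Normal).conj_mem _ q.2 _⟩ : Q) = q from
            Subtype.ext (congrArg (fun y : CC => (y : Subgroup.centralizer ({z} : Set G))) h3), hq] at h4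
        exact (psi_congr d).1 h4
      show S.toQuot (κ0 c) = 1
      rw [show κ0 c = ⟨rho g, hge ▸ hκmem c⟩ from Subtype.ext hge.symm]
      exact S.faithful g _ hcl
    have hFge : R ≤ fittingSubgroup Cb := Core.le_fittingSubgroup hR2.isNilpotent
    have hF2 : IsPGroup 2 ↥(fittingSubgroup Cb) := isPGroup_fitting_of_cent hR2 hFge hCR
    have hFle : fittingSubgroup Cb ≤ R := by
      rw [← hΘker, ← Subgroup.map_eq_bot_iff]
      exact htwo _ ((inferInstance : (fittingSubgroup Cb).Normal).map Θ hΘsurj)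
        (hF2.map Θ)
    have hF : fittingSubgroup Cb = R := le_antisymm hFle hFge
    have hlayer : layer Cb = ⊥ := by
      rw [Layer.layer_eq_bot_iff_centralizer_fitting, hF]
      exact hCR
    show generalizedFittingSubgroup Cb = R
    rw [generalizedFittingSubgroup, hlayer, bot_sup_eq, hF]
  · -- not weakly closed
    have hxCC : (x : Subgroup.centralizer ({z} : Set G)) ∈ CC :=
      hfixq hx |>.2 (oct_fixed_perm S.σ)
    obtain ⟨t, htb, htz⟩ := fusion S hodd d hex hstd (b := ⟨b, hbx⟩)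
      (by rw [Subgroup.orderOf_mk]; exact hb) hgood
    set W : H := π ⟨t, (hmemC1 t).2 htb⟩ with hW
    set x' : CC := ⟨x, hxCC⟩
    have hval : W * zb * W⁻¹ = ((μ x' : Cb) : H) := by
      rw [hW, hzbd, ← map_inv, ← map_mul, ← map_mul]
      exact congrArg π (Subtype.ext htz)
    have hmemCb : W * zb * W⁻¹ ∈ Cb := hval ▸ (μ x').2
    refine ⟨W, ⟨hmemCb, x', x.2, Subtype.ext hval.symm⟩, fun heq => ?_⟩
    rw [hval, ← hzbval] at heq
    have h3 := hμinj' x' x.2 ζ' ζ.2 (Subtype.ext heq)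
    exact typ_notMem_center d (Or.inr (Or.inr rfl)) hx64
      ((show x = ζ from Subtype.ext (congrArg (fun y : CC => (y : Subgroup.centralizer ({z} : Set G))) h3)) ▸ hζc)
  · exact congrArg π (Subtype.ext ha)
  · rintro ⟨_, hu⟩ ⟨c, hc, hcu⟩
    exact ⟨toC1 c, c, hc, rfl, congrArg Subtype.val hcu⟩

end Cfsg.Agent.MonsterFischer
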