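import Mathlib
import Cfsg.Prelude.Def_CaseTheorems

/-! A central extension, inside the derived subgroup, of a non-abelian simple group is quasisimple. -/

set_option autoImplicit false

namespace Cfsg.Agent.MonsterFischer
open Cfsg
open scoped commutatorElement

theorem quasisimple_ext {C K : Type*} [Group C] [Group K] (f : C →* K) (hf : Function.Surjective f)
    [IsSimpleGroup K] (hna : ∃ a b : K, a * b ≠ b * a) (hc : f.ker ≤ Subgroup.center C)
    (hd : f.ker ≤ commutator C) : IsQuasisimple C := by
  obtain ⟨a, b, hab⟩ := hna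
  have hmap : (commutator C).map f = ⊤ := by
    rcases ((inferInstance : (commutator C).Normal).map f hf).eq_bot_or_eq_top with h | h
    · exfalso
      obtain ⟨x, rfl⟩ := hf a
      obtain ⟨y, rfl⟩ := hf b
      have h1 : f ⁅x, y⁆ ∈ (commutator C).map f :=
        Subgroup.mem_map_of_mem f (Subgroup.commutator_mem_commutator (Subgroup.mem_top _) (Subgroup.mem_top _))
      rw [h, Subgroup.mem_bot, map_commutatorElement, commutatorElement_eq_one_iff_mul_comm] at h1
      exact hab h1
    · exact h
  have hperf : commutator C = ⊤ := by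
    have h1 : commutator C ⊔ f.ker = ⊤ := by
      rw [← Subgroup.comap_map_eq, hmap, Subgroup.comap_top]
    rwa [sup_eq_left.2 hd] at h1
  refine ⟨⟨hperf⟩, ?_⟩
  have hcen : Subgroup.center C = f.ker := by
    refine le_antisymm ?_ hc
    intro x hx
    by_contra hx1
    have hn : ((Subgroup.center C).map f).Normal := (inferInstance : (Subgroup.center C).Normal).map f hf
    rcases hn.eq_bot_or_eq_top with h | h
    · exact hx1 (MonoidHom.mem_ker.2 (Subgroup.mem_bot.1 (h ▸ Subgroup.mem_map_of_mem f hx)))
    · have ha : a ∈ (Subgroup.center C).map f := h ▸ Subgroup.mem_top a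
      obtain ⟨u, hu, rfl⟩ := ha
      obtain ⟨y, rfl⟩ := hf b
      refine hab ?_
      rw [← map_mul, ← map_mul, (Subgroup.mem_center_iff.1 hu y)]
  let e : C ⧸ Subgroup.center C ≃* K :=
    (QuotientGroup.quotientMulEquivOfEq hcen).trans (QuotientGroup.quotientKerEquivOfSurjective f hf)
  haveI : Nontrivial (C ⧸ Subgroup.center C) := e.toEquiv.nontrivial
  exact IsSimpleGroup.isSimpleGroup_of_surjective e.symm.toMonoidHom e.symm.surjective

end Cfsg.Agent.MonsterFischer
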