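import Cfsg.Agent.CentType.Central
import Cfsg.Agent.MonsterFischer.Setting
import Cfsg.Agent.MonsterFischer.Simple
import Cfsg.Agent.MonsterFischer.Generic
import Cfsg.Agent.MonsterFischer.OuterCrit
import Cfsg.Agent.MonsterFischer.Derived
import Cfsg.Agent.MonsterFischer.Iso

/-! The normaliser of a central three-element in Monster type, modulo that element. -/

set_option autoImplicit false
set_option Elab.async false

namespace Cfsg.Agent.MonsterFischer
open Cfsg Cfsg.Agent MonsterType CentType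
open scoped commutatorElement

variable {G : Type*} [Group G] [Finite G] {z : G}
  {Q : Subgroup (Subgroup.centralizer ({z} : Set G))} [Q.Normal]
  {e : (Subgroup.centralizer ({z} : Set G)) ⧸ Q ≃* Spor.Co1}
  {ψ : leechLattice → Q ⧸ Subgroup.center Q}

set_option maxHeartbeats 1600000 in
theorem main [Fact (Nat.Prime 3)] (d : Data Q e ψ) (hex : ∃ g : G, ∃ y : Q,
      g * z * g⁻¹ = ((y : Subgroup.centralizer ({z} : Set G)) : G) ∧ g * z * g⁻¹ ≠ z)
    {x : Q} (hstd : StdPoint d x)
    (b : Subgroup.centralizer ({z} : Set G)) (hb : orderOf b = 3)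
    (hp : proj e b = rho (liftS Central.setting.σ))
    (hbx : b ∈ jointC x) (hgood : SylCentral 3 (⟨b, hbx⟩ : jointC x))
    (Y : Subgroup G) (hY : Y = Subgroup.zpowers (b : G))
    [hn : (Y.subgroupOf (Subgroup.centralizer (Y : Set G))).Normal]
    [hn' : (Y.subgroupOf (Subgroup.normalizer (Y : Set G))).Normal] :
    Cfsg.IsQuasisimple ↥(Subgroup.centralizer (Y : Set G)) ∧
    Cfsg.Spor.IsoFi24' (↥(Subgroup.centralizer (Y : Set G)) ⧸ Y.subgroupOf (Subgroup.centralizer (Y : Set G))) ∧
    ∃ E : Set (↥(Subgroup.normalizer (Y : Set G)) ⧸ Y.subgroupOf (Subgroup.normalizer (Y : Set G))),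
      Cfsg.IsThreeTranspositionClass E ∧ Cfsg.IsOfTypeM24 _ E := by
  set C1 := Subgroup.centralizer (Y : Set G) with hC1
  set N1 := Subgroup.normalizer (Y : Set G) with hN1
  have hbG : orderOf (b : G) = 3 := by rw [Subgroup.orderOf_coe, hb]
  have hb3 : (b : G) ^ 3 = 1 := by rw [← hbG]; exact pow_orderOf_eq_one _
  have hb1 : (b : G) ≠ 1 := fun h => by rw [h, orderOf_one] at hbG; omega
  have hbY : (b : G) ∈ Y := hY ▸ Subgroup.mem_zpowers _
  have hY' : ∀ a : G, a ∈ Y ↔ a = 1 ∨ a = (b : G) ∨ a = (b : G) ^ 2 := by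
    intro a
    rw [hY]
    constructor
    · intro ha
      rw [← mem_powers_iff_mem_zpowers, Submonoid.mem_powers_iff] at ha
      obtain ⟨i, rfl⟩ := ha
      rw [pow_eq_pow_mod i hb3]
      have := Nat.mod_lt i (show 3 > 0 by norm_num)
      interval_cases (i % 3) <;> simp
    · rintro (rfl | rfl | rfl)
      · exact one_mem _
      · exact Subgroup.mem_zpowers _
      · exact pow_mem (Subgroup.mem_zpowers _) 2
  have hmemC1 : ∀ a : G, a ∈ C1 ↔ a * (b : G) * a⁻¹ = (b : G) := by
    intro a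
    rw [hC1, Subgroup.mem_centralizer_iff, mul_inv_eq_iff_eq_mul]
    constructor
    · intro h; exact (h _ hbY).symm
    · intro h y hy
      obtain ⟨n, rfl⟩ := Subgroup.mem_zpowers_iff.1 (hY ▸ hy)
      exact ((show Commute a (b : G) from h).zpow_right n).eq.symm
  have hcases : ∀ {a : G}, a ∈ N1 → a * (b : G) * a⁻¹ = (b : G) ∨ a * (b : G) * a⁻¹ = (b : G) ^ 2 := by
    intro a ha
    rcases (hY' _).1 ((Subgroup.mem_normalizer_iff.1 ha _).1 hbY) with h | h | h
    · refine absurd ?_ hb1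
      rw [mul_inv_eq_one, mul_eq_left] at h
      exact h
    · exact Or.inl h
    · exact Or.inr h
  have hsq : (b : G) ^ 2 ≠ (b : G) := fun h => hb1 (by rwa [pow_two, mul_eq_left] at h)
  have hle : C1 ≤ N1 := fun a ha => Subgroup.mem_normalizer_iff.2 fun y => by
    have hc : ∀ w ∈ Y, a * w * a⁻¹ = w := fun w hw => by
      rw [← Subgroup.mem_centralizer_iff.1 ha w hw]; group
    constructor
    · intro hy; rwa [hc y hy]
    · intro hy
      have h := hc _ hy
      have h2 : a * y * a⁻¹ = y := mul_left_cancel (mul_right_cancel (show a * (a * y * a⁻¹) * a⁻¹ = a * y * a⁻¹ from h))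
      rwa [h2] at hy
  -- an element inverting `b`
  obtain ⟨t, -, htb⟩ := exists_lift (L := ↥Central.W) Central.setting (by norm_num) d hb hp
    (y := rho (liftS Central.twoM)) (k := 2) (by
      show rho (liftS Central.twoM) * rho (liftS Central.sigM) * (rho (liftS Central.twoM))⁻¹ =
        rho (liftS Central.sigM) ^ 2
      rw [← map_inv, ← map_mul, ← map_mul, ← map_pow]
      unfold liftS
      rw [← map_inv permHom, ← map_mul permHom, ← map_mul permHom, ← map_pow permHom, Central.two_conj])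
  have htG : (t : G) * (b : G) * (t : G)⁻¹ = (b : G) ^ 2 := by
    have h := congrArg Subtype.val htb
    simpa using h
  have htN : (t : G) ∈ N1 := by
    rw [hN1]
    refine Subgroup.mem_normalizer_iff.2 fun y => ?_
    rw [hY', hY']
    have h1 : (t : G) * (b : G) ^ 2 * (t : G)⁻¹ = (b : G) := by
      rw [← conj_pow, htG, ← pow_mul, pow_eq_pow_mod _ hb3, show 2 * 2 % 3 = 1 from rfl, pow_one]
    constructor
    · rintro (rfl | rfl | rfl)
      · left; group
      · right; right; exact htG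
      · right; left; exact h1
    · have hinj : ∀ {p q : G}, (t : G) * p * (t : G)⁻¹ = (t : G) * q * (t : G)⁻¹ → p = q := fun h =>
        mul_left_cancel (mul_right_cancel h)
      rintro (h | h | h)
      · left; exact hinj (h.trans (by group))
      · right; right; exact hinj (h.trans h1.symm)
      · right; left; exact hinj (h.trans htG.symm)
  -- the quotient and its subgroup
  set f : ↥N1 →* ↥N1 ⧸ Y.subgroupOf N1 := QuotientGroup.mk' (Y.subgroupOf N1) with hf
  let ι : ↥C1 →* ↥N1 ⧸ Y.subgroupOf N1 := f.comp (Subgroup.inclusion hle)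
  set G₀ := ι.range with hG₀
  have hfker : ∀ a : ↥N1, f a = 1 ↔ (a : G) ∈ Y := fun a => by
    rw [hf, QuotientGroup.mk'_apply, QuotientGroup.eq_one_iff, Subgroup.mem_subgroupOf]
  have hmemG₀ : ∀ a : ↥N1, f a ∈ G₀ ↔ (a : G) ∈ C1 := by
    intro a
    constructor
    · rintro ⟨c, hc⟩
      have h1 : f ((Subgroup.inclusion hle c)⁻¹ * a) = 1 := by
        rw [map_mul, map_inv, ← hc]; exact inv_mul_cancel _
      have h2 := (hfker _).1 h1
      have h3 : (c : G)⁻¹ * (a : G) ∈ C1 := (hmemC1 _).2 (by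
        rcases (hY' _).1 h2 with h | h | h <;>
          simp only [Subgroup.coe_mul, Subgroup.coe_inv, Subgroup.coe_inclusion] at h <;> rw [h] <;> group)
      simpa using mul_mem c.2 h3
    · intro ha; exact ⟨⟨a, ha⟩, rfl⟩
  let π : ↥C1 →* ↥G₀ := ι.rangeRestrict
  have hπs : Function.Surjective π := ι.rangeRestrict_surjective
  have hπker : ∀ a, π a = 1 ↔ (a : G) ∈ Y := fun a =>
    ⟨fun h => (hfker _).1 (congrArg Subtype.val h), fun h => Subtype.ext ((hfker _).2 h)⟩
  have hidx : G₀.index = 2 := by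
    rw [Subgroup.index_eq_two_iff']
    refine ⟨f ⟨t, htN⟩, fun y => ?_⟩
    obtain ⟨a, rfl⟩ := QuotientGroup.mk'_surjective (Y.subgroupOf N1) y
    rw [← hf, ← map_mul, hmemG₀, hmemG₀, hmemC1, hmemC1]
    have h1 : ((⟨t, htN⟩ * a : ↥N1) : G) * (b : G) * ((⟨t, htN⟩ * a : ↥N1) : G)⁻¹ =
        (t : G) * ((a : G) * (b : G) * (a : G)⁻¹) * (t : G)⁻¹ := by
      simp only [Subgroup.coe_mul]; group
    rw [h1]
    rcases hcases a.2 with h | h
    · exact Or.inr ⟨h, by rw [h, htG]; exact hsq⟩
    · refine Or.inl ⟨?_, by rw [h]; exact hsq⟩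
      rw [h, ← conj_pow, htG, ← pow_mul, pow_eq_pow_mod _ hb3, show 2 * 2 % 3 = 1 from rfl, pow_one]
  obtain ⟨zb, R, hRn, hset, ⟨eb⟩, hzb, hR⟩ := settingAt Central.setting (by norm_num) Central.two_bot d hex
    hstd b hb hp hbx (iff_of_true hgood trivial) Y hY π hπs hπker
  have hF : IsOfLargeFischerTypeAt zb R := ⟨hset, Central.target_pieces R eb⟩
  have hzC1 : z ∈ C1 := (hmemC1 z).2 (mul_inv_eq_iff_eq_mul.2 (Subgroup.mem_centralizer_singleton_iff.1 b.2).symm)
  have hzb' : ((zb : ↥G₀) : ↥N1 ⧸ Y.subgroupOf N1) = f ⟨z, hle hzC1⟩ := by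
    rw [← hzb ⟨z, hzC1⟩ rfl]; rfl
  have hσd : rho (liftS Central.setting.σ) ∈
      ⁅Subgroup.centralizer ({rho (liftS Central.setting.σ)} : Set Spor.Co1),
        Subgroup.centralizer ({rho (liftS Central.setting.σ)} : Set Spor.Co1)⁆ := sigma_derived
  have hFX := gfitting_no_outer G₀ hidx zb R hset.2.1 (IsPGroup.of_card hset.2.2.2.1) (by
    intro y hy hyz
    obtain ⟨a, rfl⟩ := QuotientGroup.mk'_surjective (Y.subgroupOf N1) y
    rw [← hf] at hy hyz ⊢
    have hab : (a : G) * (b : G) * (a : G)⁻¹ = (b : G) ^ 2 :=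
      (hcases a.2).resolve_left fun h => hy ((hmemG₀ a).2 ((hmemC1 _).2 h))
    have hcomm : f (a * ⟨z, hle hzC1⟩ * a⁻¹ * ⟨z, hle hzC1⟩⁻¹) = 1 := by
      rw [map_mul, map_mul, map_mul, map_inv, map_inv, ← hzb', hyz.eq]; group
    have hu := (hfker _).1 hcomm
    simp only [Subgroup.coe_mul, Subgroup.coe_inv] at hu
    have hz2 : z * z = 1 := z_sq d
    have hzb2 : ∀ u ∈ Y, z * u = u * z := fun u hu => (Subgroup.mem_centralizer_iff.1 hzC1 u hu).symm
    set u := (a : G) * z * (a : G)⁻¹ * z⁻¹ with hud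
    have hu2 : u * u = 1 := by
      have h1 : (a : G) * z * (a : G)⁻¹ = u * z := by rw [hud]; group
      have h2 : (u * z) * (u * z) = 1 := by
        rw [← h1, show (a : G) * z * (a : G)⁻¹ * ((a : G) * z * (a : G)⁻¹) = (a : G) * (z * z) * (a : G)⁻¹ by group, hz2]
        group
      rwa [show u * z * (u * z) = u * (z * u) * z by group, hzb2 u hu, show u * (u * z) * z = u * u * (z * z) by group, hz2, mul_one] at h2
    have hu1 : u = 1 := by
      rcases (hY' _).1 hu with h | h | h
      · exact h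
      · exfalso; rw [h, ← pow_two] at hu2
        exact absurd (Nat.le_of_dvd (by norm_num) (hbG ▸ orderOf_dvd_of_pow_eq_one hu2)) (by norm_num)
      · exfalso; rw [h, ← pow_add, pow_eq_pow_mod _ hb3, show (2 + 2) % 3 = 1 from rfl, pow_one] at hu2
        exact hb1 hu2
    have haz : (a : G) * z = z * (a : G) := by
      rw [hud, mul_inv_eq_one, mul_inv_eq_iff_eq_mul] at hu1
      exact hu1
    set a' : Subgroup.centralizer ({z} : Set G) := ⟨a, Subgroup.mem_centralizer_singleton_iff.2 haz⟩ with ha'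
    have hy2 : proj e a' * rho (liftS Central.setting.σ) * (proj e a')⁻¹ =
        rho (liftS Central.setting.σ) ^ 2 := by
      rw [← hp, ← map_inv, ← map_mul, ← map_mul, ← map_pow]
      exact congrArg (proj e) (Subtype.ext hab)
    have hne : rho (liftS Central.setting.σ) ≠ 1 := by
      rw [← hp]
      intro h
      have : (b : Subgroup.centralizer ({z} : Set G)) = 1 :=
        two_power (p := 3) (by norm_num) d (proj_eq_one.1 h) (by rw [← hb]; exact pow_orderOf_eq_one b)
      exact hb1 (congrArg Subtype.val this)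
    obtain ⟨c, hc, hcn⟩ := exists_outside_of_sq hne hσd hy2
    obtain ⟨s, hs, hsb⟩ := exists_lift Central.setting (by norm_num) d hb hp (y := c) (k := 1) (by
      rw [pow_one, Subgroup.mem_centralizer_singleton_iff.1 hc, mul_inv_cancel_right])
    have hsC : (s : G) ∈ C1 := (hmemC1 _).2 (by
      have h := congrArg Subtype.val hsb
      simpa using h)
    refine ⟨π ⟨s, hsC⟩, ?_, ?_⟩
    · rw [← hzb ⟨z, hzC1⟩ rfl]
      exact Commute.map (show Commute (⟨s, hsC⟩ : ↥C1) ⟨z, hzC1⟩ from
        Subtype.ext (Subgroup.mem_centralizer_singleton_iff.1 s.2)) π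
    · rintro ⟨w, ⟨⟨u', hu'⟩, hu'R, rfl⟩, hw⟩
      obtain ⟨q0, q, hq, hqv, hqπ⟩ := hR ⟨u', hu'⟩ hu'R
      have h1 : f (a * ⟨s, hle hsC⟩ * a⁻¹ * ⟨s, hle hsC⟩⁻¹) = f (Subgroup.inclusion hle q0) := by
        rw [map_mul, map_mul, map_mul, map_inv, map_inv]
        refine hw.symm.trans ?_
        show ((u' : ↥G₀) : ↥N1 ⧸ Y.subgroupOf N1) = _
        exact (congrArg Subtype.val hqπ).symm
      have h2 : f ((Subgroup.inclusion hle q0)⁻¹ * (a * ⟨s, hle hsC⟩ * a⁻¹ * ⟨s, hle hsC⟩⁻¹)) = 1 := by
        rw [map_mul, map_inv, h1, inv_mul_cancel]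
      have h3 := (hfker _).1 h2
      simp only [Subgroup.coe_mul, Subgroup.coe_inv, Subgroup.coe_inclusion, hqv] at h3
      obtain ⟨i, hi⟩ := Subgroup.mem_zpowers_iff.1 (hY ▸ h3)
      have h4 : (q⁻¹ * (a' * s * a'⁻¹ * s⁻¹) : Subgroup.centralizer ({z} : Set G)) = b ^ i :=
        Subtype.ext (by
          rw [SubgroupClass.coe_zpow, hi]
          simp only [Subgroup.coe_mul, Subgroup.coe_inv, ha'])
      have h5 := congrArg (proj e) h4
      rw [map_mul, map_mul, map_mul, map_mul, map_inv, map_inv, map_inv, map_zpow, hp, hs,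
        proj_eq_one.2 hq, inv_one, one_mul] at h5
      exact hcn (h5 ▸ Subgroup.zpow_mem_zpowers _ i))
  have hcentral := central_in_sylow hset
  obtain ⟨eX⟩ := m24_iso hidx hF hcentral hFX
  obtain ⟨hiso, hsimple, hna⟩ := commutator_of_iso hidx eX
  have hkerπ : π.ker = Y.subgroupOf C1 := by
    ext a
    rw [MonoidHom.mem_ker, hπker, Subgroup.mem_subgroupOf]
  refine ⟨?_, ?_, LargeFischerAut.m24_result hidx hF hcentral hFX⟩
  · haveI := hsimple
    refine quasisimple_ext π hπs hna ?_ ?_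
    · intro a ha
      rw [Subgroup.mem_center_iff]
      intro c
      exact Subtype.ext (Subgroup.mem_centralizer_iff.1 c.2 _ ((hπker a).1 (MonoidHom.mem_ker.1 ha))).symm
    · have hb' := generator_derived d b hb hp
      have heq : Subgroup.centralizer ({(b : G)} : Set G) = C1 := by
        ext a
        rw [hmemC1, Subgroup.mem_centralizer_singleton_iff, mul_inv_eq_iff_eq_mul]
      rw [heq, ← Subgroup.map_subtype_commutator] at hb'
      have hYd : Y ≤ (commutator ↥C1).map C1.subtype := by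
        rw [hY, Subgroup.zpowers_le]
        exact hb'
      intro a ha
      obtain ⟨c, hc, hca⟩ := hYd ((hπker a).1 (MonoidHom.mem_ker.1 ha))
      rwa [Subtype.ext hca] at hc
  · obtain ⟨eI⟩ := hiso
    exact ⟨(QuotientGroup.quotientMulEquivOfEq hkerπ.symm).trans
      ((QuotientGroup.quotientKerEquivOfSurjective π hπs).trans eI)⟩

end Cfsg.Agent.MonsterFischer
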